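import Groth.Agent.FlatDVR.Test
import Groth.Agent.FDesc.Algebra
import Groth.Agent.RegLoc.AdicNoeth
import Mathlib.RingTheory.AdicCompletion.AsTensorProduct
import Mathlib.RingTheory.EssentialFiniteness
import Mathlib.RingTheory.Flat.FaithfullyFlat.Algebra
import Mathlib.RingTheory.IsTensorProduct
import Mathlib.RingTheory.LocalProperties.Reduced
import Mathlib.RingTheory.Regular.IsSMulRegular

/-! The valuative criterion of flatness over a reduced Noetherian local ring (EGA IV 11.8.1). -/

set_option autoImplicit false

universe u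

namespace Groth.Agent.FlatDVR

open IsLocalRing TensorProduct

attribute [local instance] Algebra.TensorProduct.rightAlgebra

theorem isNoetherianRing_of_essFiniteType (R S : Type u) [CommRing R] [IsNoetherianRing R]
    [CommRing S] [Algebra R S] [Algebra.EssFiniteType R S] : IsNoetherianRing S := by
  haveI : IsNoetherianRing (Algebra.EssFiniteType.subalgebra R S) :=
    Algebra.FiniteType.isNoetherianRing R _
  exact IsLocalization.isNoetherianRing (Algebra.EssFiniteType.submonoid R S) S inferInstance

/-- A prime contracted from an associated prime of a flat algebra over a reduced Noetherian ring is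
minimal. -/
theorem comap_mem_minimalPrimes {A A' : Type u} [CommRing A] [IsNoetherianRing A] [IsReduced A]
    [CommRing A'] [Algebra A A'] [IsNoetherianRing A'] [Module.Flat A A'] (p : Ideal A')
    (hp : p ∈ associatedPrimes A' A') : p.comap (algebraMap A A') ∈ minimalPrimes A := by
  haveI : p.IsPrime := IsAssociatedPrime.isPrime hp
  set q := p.comap (algebraMap A A')
  have hfin := minimalPrimes.finite_of_isNoetherianRing A
  have hsub : (q : Set A) ⊆ ⋃ P ∈ (↑hfin.toFinset : Set (Ideal A)), (P : Set A) := by
    intro a ha
    by_contra hcon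
    simp only [Set.mem_iUnion, Set.Finite.coe_toFinset, SetLike.mem_coe, not_exists] at hcon
    have hreg : IsSMulRegular A a := by
      intro b c hbc
      rw [← sub_eq_zero]
      refine (nilpotent_iff_mem_prime.mpr fun P hP => ?_ : IsNilpotent (b - c)).eq_zero
      obtain ⟨P₀, hP₀, hle⟩ := Ideal.exists_minimalPrimes_le (bot_le : (⊥ : Ideal A) ≤ P)
      refine hle ((hP₀.1.1.mem_or_mem ?_).resolve_left (hcon P₀ hP₀))
      rw [mul_sub, show a * b = a * c from hbc, sub_self]
      exact P₀.zero_mem
    have hreg' : IsSMulRegular A' (algebraMap A A' a) := hreg.of_flat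
    have : algebraMap A A' a ∈ ⋃ P ∈ associatedPrimes A' A', (P : Set A') :=
      Set.mem_biUnion hp ha
    rw [biUnion_associatedPrimes_eq_compl_regular] at this
    exact this hreg'
  obtain ⟨P, hP, hle⟩ := (Ideal.subset_union_prime (f := fun P : Ideal A => P) ⊥ ⊥
    fun P hP _ _ => (hfin.mem_toFinset.mp hP).1.1).mp hsub
  have hP' := hfin.mem_toFinset.mp hP
  rwa [le_antisymm hle (hP'.2 ⟨inferInstance, bot_le⟩ hle)]

theorem isField_localization_minimal {A : Type u} [CommRing A] [IsReduced A] (q : Ideal A) [q.IsPrime]
    (hq : q ∈ minimalPrimes A) : IsField (Localization.AtPrime q) := by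
  haveI : Ring.KrullDimLE 0 (Localization.AtPrime q) := by
    rw [Ring.krullDimLE_iff, IsLocalization.AtPrime.ringKrullDim_eq_height q,
      Ideal.height_eq_zero_iff.mpr hq]
    exact le_rfl
  exact Ring.KrullDimLE.isField_of_isReduced

set_option maxHeartbeats 1000000 in
/-- The part of the criterion happening over a complete local ring. -/
theorem flat_over_completion {A Ah C : Type u} [CommRing A] [IsNoetherianRing A] [IsLocalRing A]
    [IsReduced A] [CommRing Ah] [IsNoetherianRing Ah] [IsLocalRing Ah]
    [IsAdicComplete (maximalIdeal Ah) Ah] [Algebra A Ah] [IsLocalHom (algebraMap A Ah)]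
    [Module.Flat A Ah] (hres : Function.Surjective ((residue Ah).comp (algebraMap A Ah)))
    [CommRing C] [IsNoetherianRing C] [IsLocalRing C] [Algebra Ah C] [IsLocalHom (algebraMap Ah C)]
    (M : Type u) [AddCommGroup M] [Module A M] (h : ArtinTest A M)
    (MC : Type u) [AddCommGroup MC] [Module Ah MC] [Module C MC] [IsScalarTower Ah C MC] [Module.Finite C MC]
    (hMC : ∀ (S : Type u) [CommRing S] [Algebra Ah S] [Algebra A S] [IsScalarTower A Ah S],
      Module.Flat S (S ⊗[A] M) → Module.Flat S (S ⊗[Ah] MC)) :
    Module.Flat Ah MC := by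
  let nil : Ideal Ah := nilradical Ah
  let R := Ah ⧸ nil
  have hnil : nil ≠ ⊤ := fun h => by
    have : (1 : Ah) ∈ nil := h ▸ trivial
    exact not_isNilpotent_one (mem_nilradical.mp this)
  haveI : Nontrivial R := Ideal.Quotient.nontrivial_iff.mpr hnil
  haveI : IsLocalRing R := IsLocalRing.of_surjective' (Ideal.Quotient.mk nil) Ideal.Quotient.mk_surjective
  haveI : IsReduced R := (Ideal.isRadical_iff_quotient_reduced _).mp (Ideal.radical_isRadical _)
  haveI hloc : IsLocalHom (algebraMap Ah R) := .of_surjective _ Ideal.Quotient.mk_surjective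
  haveI : IsLocalHom (algebraMap A R) := by
    rw [IsScalarTower.algebraMap_eq A Ah R]
    infer_instance
  have hmapR : (maximalIdeal Ah).map (algebraMap Ah R) = maximalIdeal R :=
    IsLocalRing.map_maximalIdeal_of_surjective _ Ideal.Quotient.mk_surjective
  haveI : IsAdicComplete (maximalIdeal R) R := by
    haveI : IsPrecomplete (maximalIdeal R) R := by
      rw [← hmapR]
      exact IsPrecomplete.map_algebraMap_iff.mpr
        (Adic.isPrecomplete_of_surjective (maximalIdeal Ah) nil.mkQ nil.mkQ_surjective)
    exact {}
  have hsurjA : Function.Surjective ((residue R).comp (algebraMap A R)) := fun z => by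
    obtain ⟨r, rfl⟩ := residue_surjective z
    obtain ⟨r, rfl⟩ := Ideal.Quotient.mk_surjective r
    obtain ⟨a, hw⟩ := hres (residue Ah r)
    refine ⟨a, ?_⟩
    rw [RingHom.comp_apply, IsScalarTower.algebraMap_apply A Ah R]
    show residue R (algebraMap Ah R (algebraMap A Ah a)) = residue R (algebraMap Ah R r)
    have h3 := congrArg (ResidueField.map (algebraMap Ah R)) hw
    rw [RingHom.comp_apply] at h3
    rwa [ResidueField.map_residue, ResidueField.map_residue] at h3
  -- the test over `R`
  have hR : ArtinTest R (R ⊗[A] M) := by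
    intro V _ _ _ _ _ hfin k
    letI : Algebra A V := ((algebraMap R V).comp (algebraMap A R)).toAlgebra
    haveI : IsScalarTower A R V := IsScalarTower.of_algebraMap_eq fun _ => rfl
    haveI : IsLocalHom (algebraMap A V) := RingHom.isLocalHom_comp (algebraMap R V) (algebraMap A R)
    have hfinA : ((residue V).comp (algebraMap A V)).Finite := by
      have e1 : (residue V).comp (algebraMap R V) =
          (ResidueField.map (algebraMap R V)).comp (residue R) := (ResidueField.map_comp_residue _).symm
      rw [e1] at hfin
      have h2 := (RingHom.Finite.of_comp_finite hfin).comp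
        (RingHom.Finite.of_surjective _ hsurjA)
      rwa [← RingHom.comp_assoc, ← e1, RingHom.comp_assoc] at h2
    haveI := h V hfinA k
    exact FlatNilp.flat_baseChange_twice (R := A) R _ M
  -- flat modulo the nilradical
  let SR := R ⊗[Ah] C
  let ι : C →ₐ[Ah] SR := Algebra.TensorProduct.includeRight
  have hι : Function.Surjective ι := fun z => by
    induction z using TensorProduct.induction_on with
    | zero => exact ⟨0, map_zero ι⟩
    | tmul r c =>
      obtain ⟨r, rfl⟩ := Ideal.Quotient.mk_surjective r
      refine ⟨r • c, ?_⟩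
      show (1 : R) ⊗ₜ[Ah] (r • c) = _
      rw [← smul_tmul, Algebra.smul_def, mul_one]
      rfl
    | add x y hx hy =>
      obtain ⟨a, rfl⟩ := hx
      obtain ⟨b, rfl⟩ := hy
      exact ⟨a + b, map_add ι a b⟩
  haveI : IsNoetherianRing SR := isNoetherianRing_of_surjective C SR ι.toRingHom hι
  haveI : Nontrivial SR := by
    letI : Field (C ⧸ maximalIdeal C) := Ideal.Quotient.field _
    let π : R →ₐ[Ah] (C ⧸ maximalIdeal C) :=
      Ideal.Quotient.liftₐ nil (Algebra.ofId Ah (C ⧸ maximalIdeal C)) fun r hr =>
        ((mem_nilradical.mp hr).map (algebraMap Ah (C ⧸ maximalIdeal C))).eq_zero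
    exact (Algebra.TensorProduct.lift π (Ideal.Quotient.mkₐ Ah (maximalIdeal C))
      fun _ _ => Commute.all _ _).toRingHom.domain_nontrivial
  haveI : IsLocalRing SR := IsLocalRing.of_surjective' (R := C) (S := SR) ι.toRingHom hι
  haveI : IsLocalHom ι.toRingHom := .of_surjective _ hι
  haveI : IsLocalHom (algebraMap R SR) := ⟨fun r hr => by
    obtain ⟨r, rfl⟩ := Ideal.Quotient.mk_surjective r
    have e : algebraMap R SR (algebraMap Ah R r) = ι.toRingHom (algebraMap Ah C r) := by
      rw [← IsScalarTower.algebraMap_apply Ah R SR]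
      exact (ι.commutes r).symm
    rw [show Ideal.Quotient.mk nil r = algebraMap Ah R r from rfl, e] at hr
    exact (IsLocalHom.map_nonunit r (IsLocalHom.map_nonunit _ hr)).map _⟩
  let Y := SR ⊗[C] MC
  let eY : Y ≃ₗ[R] R ⊗[Ah] MC := Algebra.IsPushout.cancelBaseChange Ah R C SR MC
  haveI : Module.Finite C MC := inferInstance
  have hY : Module.Flat R Y := by
    refine flat_of_killed (S := SR) Y fun n => ?_
    haveI := flat_quot_pow_of_complete (R ⊗[A] M) hR n
    haveI : Module.Flat (R ⧸ maximalIdeal R ^ n) ((R ⧸ maximalIdeal R ^ n) ⊗[A] M) :=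
        Module.Flat.of_linearEquiv
          (AlgebraTensorModule.cancelBaseChange A R (R ⧸ maximalIdeal R ^ n) (R ⧸ maximalIdeal R ^ n) M).symm
    haveI := hMC (R ⧸ maximalIdeal R ^ n) inferInstance
    haveI := FlatNilp.flat_baseChange_twice (R := Ah) R (R ⧸ maximalIdeal R ^ n) MC
    exact Module.Flat.of_linearEquiv (eY.baseChange R (R ⧸ maximalIdeal R ^ n) _ _)
  haveI : Module.Flat R (R ⊗[Ah] MC) := Module.Flat.of_linearEquiv eY.symm
  -- flat at the associated primes
  refine flat_of_flat_mod_nilpotent_of_ass nil ?_ MC fun p _ hp => ?_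
  · exact IsNoetherianRing.isNilpotent_nilradical Ah
  let q := p.comap (algebraMap A Ah)
  letI := (isField_localization_minimal q (comap_mem_minimalPrimes p hp)).toField
  letI : Algebra (Localization.AtPrime q) (Localization.AtPrime p) :=
    (Localization.localRingHom q p (algebraMap A Ah) rfl).toAlgebra
  haveI : IsScalarTower A (Localization.AtPrime q) (Localization.AtPrime p) :=
    IsScalarTower.of_algebraMap_eq fun a => by
      show _ = Localization.localRingHom q p (algebraMap A Ah) rfl
        (algebraMap A (Localization.AtPrime q) a)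
      rw [Localization.localRingHom_to_map, ← IsScalarTower.algebraMap_apply]
  haveI : Module.Flat (Localization.AtPrime p) (Localization.AtPrime p ⊗[A] M) :=
    FlatNilp.flat_baseChange_of_tower (R := A) (Localization.AtPrime q) _ M
  haveI := hMC (Localization.AtPrime p) inferInstance
  exact Module.Flat.of_linearEquiv (LocalizedModule.equivTensorProduct p.primeCompl MC)

set_option maxHeartbeats 1000000 in
/-- EGA IV 11.8.1. -/
theorem flat_of_artinTest {A B : Type u} [CommRing A] [IsNoetherianRing A] [IsLocalRing A]
    [IsReduced A] [CommRing B] [IsNoetherianRing B] [IsLocalRing B] [Algebra A B]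
    [IsLocalHom (algebraMap A B)] [Algebra.EssFiniteType A B]
    (M : Type u) [AddCommGroup M] [Module A M] [Module B M] [IsScalarTower A B M] [Module.Finite B M]
    (h : ArtinTest A M) : Module.Flat A M := by
  classical
  let Ah := AdicCompletion (maximalIdeal A) A
  haveI : IsNoetherianRing Ah :=
    RegLoc.AdicNoeth.isNoetherianRing_adicCompletion (maximalIdeal A) (IsNoetherian.noetherian _)
  -- the localised base change to the completion
  let B' := Ah ⊗[A] B
  haveI : IsNoetherianRing B' := isNoetherianRing_of_essFiniteType Ah B'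
  let eκ := RingEquiv.ofBijective _ (AdicCompletion.residueField_map_bijective A)
  let σ : Ah →ₐ[A] ResidueField B :=
    { (ResidueField.map (algebraMap A B)).comp (eκ.symm.toRingHom.comp (residue Ah)) with
      commutes' := fun a => by
        have : eκ.symm (residue Ah (algebraMap A Ah a)) = residue A a :=
          eκ.injective ((eκ.apply_symm_apply _).trans (ResidueField.map_residue _ a).symm)
        show ResidueField.map (algebraMap A B) (eκ.symm (residue Ah (algebraMap A Ah a))) = _
        rw [this, ResidueField.map_residue]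
        rfl }
  let τ : B' →ₐ[A] ResidueField B :=
    Algebra.TensorProduct.lift σ (IsScalarTower.toAlgHom A B (ResidueField B)) fun _ _ => Commute.all _ _
  let QQ : Ideal B' := RingHom.ker τ.toRingHom
  haveI : QQ.IsPrime := RingHom.ker_isPrime _
  let C := Localization.AtPrime QQ
  haveI : IsNoetherianRing C := IsLocalization.isNoetherianRing QQ.primeCompl C inferInstance
  haveI : Module.Flat B' C := IsLocalization.flat C QQ.primeCompl
  letI iC : CommRing C := inferInstance
  haveI : IsScalarTower A B B' := IsScalarTower.of_algebraMap_eq fun a =>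
    ((Algebra.TensorProduct.includeRight : B →ₐ[A] Ah ⊗[A] B).commutes a).symm
  haveI : Module.Flat B B' :=
    Module.Flat.isBaseChange A B Ah B' (Algebra.IsPushout.out (R := A) (S := B) (R' := Ah) (S' := B'))
  haveI : IsScalarTower A B C := IsScalarTower.of_algebraMap_eq fun a => by
    rw [IsScalarTower.algebraMap_apply A B' C, IsScalarTower.algebraMap_apply B B' C,
      IsScalarTower.algebraMap_apply A B B']
  haveI : Module.Flat B C := Module.Flat.trans B B' C
  have hlocal : ∀ z : B', IsUnit (algebraMap B' C z) → τ z ≠ 0 := fun z hz =>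
    (IsLocalization.AtPrime.isUnit_to_map_iff C QQ z).mp hz
  haveI : IsLocalHom (algebraMap B C) := ⟨fun b hb => by
    rw [IsScalarTower.algebraMap_apply B B' C] at hb
    have h1 : τ (algebraMap B B' b) = residue B b := by
      show τ ((1 : Ah) ⊗ₜ[A] b) = _
      rw [Algebra.TensorProduct.lift_tmul, map_one, one_mul]
      rfl
    have := hlocal _ hb
    rw [h1] at this
    exact (residue_ne_zero_iff_isUnit b).mp this⟩
  haveI : Module.FaithfullyFlat B C := Module.FaithfullyFlat.of_flat_of_isLocalHom (A := B) (B := C)
  haveI : IsLocalHom (algebraMap Ah C) := ⟨fun r hr => by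
    rw [IsScalarTower.algebraMap_apply Ah B' C] at hr
    have := hlocal _ hr
    rw [show τ (algebraMap Ah B' r) = σ r by
      show τ (r ⊗ₜ[A] (1 : B)) = _
      rw [Algebra.TensorProduct.lift_tmul, map_one, mul_one]] at this
    refine (residue_ne_zero_iff_isUnit r).mp fun h0 => this ?_
    show ResidueField.map (algebraMap A B) (eκ.symm (residue Ah r)) = 0
    rw [h0, map_zero, map_zero]⟩
  let MC := C ⊗[B'] (B' ⊗[B] M)
  let e₀ : (B' ⊗[B] M) ≃ₗ[Ah] Ah ⊗[A] M := Algebra.IsPushout.cancelBaseChange A Ah B B' M
  -- flatness of the base changes of `MC`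
  have hMC : ∀ (S : Type u) [CommRing S] [Algebra Ah S] [Algebra A S] [IsScalarTower A Ah S],
      Module.Flat S (S ⊗[A] M) → Module.Flat S (S ⊗[Ah] MC) := by
    intro S _ _ _ _ hS
    haveI := FlatNilp.flat_baseChange_twice (R := A) Ah S M
    haveI : Module.Flat S (S ⊗[Ah] (B' ⊗[B] M)) :=
      Module.Flat.of_linearEquiv (e₀.baseChange Ah S _ _)
    exact flat_baseChange_tensor S B' C (B' ⊗[B] M)
  haveI : Module.Flat A Ah := AdicCompletion.flat_of_isNoetherian _
  have hres : Function.Surjective ((residue Ah).comp (algebraMap A Ah)) := fun z => by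
    obtain ⟨w, rfl⟩ := (AdicCompletion.residueField_map_bijective A).2 z
    obtain ⟨a, rfl⟩ := residue_surjective w
    exact ⟨a, (ResidueField.map_residue _ a).symm⟩
  haveI : Module.Flat Ah MC := flat_over_completion (C := C) hres M h MC hMC
  haveI : Module.Flat A MC := Module.Flat.trans A Ah MC
  haveI : Module.Flat A (C ⊗[B] M) := Module.Flat.of_linearEquiv
    ((AlgebraTensorModule.cancelBaseChange B B' C C M).symm.restrictScalars A)
  exact FDesc.Algebra.flat_of_faithfullyFlat_baseChange (A := A) (B := B) (C := C) M

end Groth.Agent.FlatDVR
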