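import Groth.Agent.FlatDVR.Test
import Mathlib.RingTheory.IntegralClosure.IsIntegralClosure.Basic
import Mathlib.RingTheory.Localization.BaseChange

/-! Flatness modulo an ideal is checked at the maximal ideals containing it. -/

set_option autoImplicit false

universe u

namespace Groth.Agent.FlatDVR

open TensorProduct

theorem flat_quot_of_maximal {V W : Type u} [CommRing V] [CommRing W] [Algebra V W] (I : Ideal V)
    (h : ∀ P : Ideal W, ∀ [P.IsMaximal], I.map (algebraMap V W) ≤ P →
      Module.Flat V (Localization.AtPrime P)) :
    Module.Flat (V ⧸ I) ((V ⧸ I) ⊗[V] W) := by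
  refine flat_baseChange_of_injective_test (V ⧸ I) W fun U U' _ _ _ _ _ _ _ _ a ha => ?_
  rw [← LinearMap.lTensor_inj_iff_rTensor_inj, injective_iff_map_eq_zero]
  intro z hz
  by_contra hz0
  let K : Ideal W := LinearMap.ker (LinearMap.toSpanSingleton W (W ⊗[V] U) z)
  have hK : K ≠ ⊤ := fun htop => hz0 (by
    have : (1 : W) ∈ K := htop ▸ trivial
    simpa [K] using this)
  obtain ⟨P, hP, hKP⟩ := Ideal.exists_le_maximal K hK
  have hkill : ∀ i ∈ I, ∀ y : W ⊗[V] U, algebraMap V W i • y = 0 := by
    intro i hi y
    rw [algebraMap_smul]
    induction y using TensorProduct.induction_on with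
    | zero => simp
    | tmul w u =>
      rw [← TensorProduct.tmul_smul, ← algebraMap_smul (V ⧸ I) i u, Ideal.Quotient.algebraMap_eq,
        Ideal.Quotient.eq_zero_iff_mem.mpr hi, zero_smul, TensorProduct.tmul_zero]
    | add x y hx hy => rw [smul_add, hx, hy, add_zero]
  by_cases hIP : I.map (algebraMap V W) ≤ P
  · haveI := h P hIP
    let l := AlgebraTensorModule.rTensor V U (Algebra.linearMap W (Localization.AtPrime P))
    haveI : IsLocalizedModule P.primeCompl l := inferInstance
    have h0 : l z = 0 := by
      apply Module.Flat.lTensor_preserves_injective_linearMap (M := Localization.AtPrime P)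
        (a.restrictScalars V) ha
      rw [map_zero]
      have hc : ∀ y, (a.restrictScalars V).lTensor (Localization.AtPrime P) (l y) =
          AlgebraTensorModule.rTensor V U' (Algebra.linearMap W (Localization.AtPrime P))
            ((a.restrictScalars V).lTensor W y) := by
        intro y
        induction y using TensorProduct.induction_on with
        | zero => simp only [map_zero]
        | tmul w u => rfl
        | add x y hx hy => simp only [map_add, hx, hy]
      rw [hc, hz, map_zero]
    obtain ⟨s, hs⟩ := IsLocalizedModule.exists_of_eq (S := P.primeCompl) (h0.trans (map_zero l).symm)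
    rw [smul_zero] at hs
    exact s.2 (hKP (LinearMap.mem_ker.mpr hs))
  · rw [Ideal.map_le_iff_le_comap, SetLike.not_le_iff_exists] at hIP
    obtain ⟨i, hi, hiP⟩ := hIP
    exact hiP (hKP (LinearMap.mem_ker.mpr (hkill i hi z)))

end Groth.Agent.FlatDVR
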