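import Groth.Agent.FlatNilp.Basic
import Mathlib.RingTheory.Ideal.AssociatedPrime.Finiteness
import Mathlib.RingTheory.Flat.Localization
import Mathlib.LinearAlgebra.TensorProduct.Pi
import Mathlib.Algebra.DirectSum.Module

/-! Flatness modulo a nilpotent ideal and at the associated primes. -/

set_option autoImplicit false

universe u

namespace Groth.Agent.FlatDVR

open TensorProduct

/-- Flatness over a finite product of rings is componentwise. -/
theorem flat_pi {ι : Type u} [Fintype ι] [DecidableEq ι] (S : ι → Type u) [∀ i, CommRing (S i)]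
    (N : Type u) [AddCommGroup N] [Module (∀ i, S i) N]
    (h : ∀ i, letI := (Pi.evalRingHom S i).toAlgebra; Module.Flat (S i) (S i ⊗[∀ i, S i] N)) :
    Module.Flat (∀ i, S i) N := by
  letI : ∀ i, Algebra (∀ i, S i) (S i) := fun i => (Pi.evalRingHom S i).toAlgebra
  have hflat : ∀ i, Module.Flat (∀ i, S i) (N ⊗[∀ i, S i] S i) := fun i => by
    haveI := h i
    haveI : Module.Flat (∀ i, S i) (S i) := by
      refine Module.Flat.of_retract
        { toFun := fun a => Pi.single i a
          map_add' := fun a b => Pi.single_add i a b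
          map_smul' := fun r a => funext fun j => by
            rcases eq_or_ne j i with rfl | hj
            · simp [Algebra.smul_def]
              rfl
            · simp [hj] }
        { toFun := fun r => r i
          map_add' := fun a b => rfl
          map_smul' := fun r a => rfl } (LinearMap.ext fun a => ?_)
      simp
    haveI : Module.Flat (∀ i, S i) (S i ⊗[∀ i, S i] N) := Module.Flat.trans _ (S i) _
    exact Module.Flat.of_linearEquiv (TensorProduct.comm _ N (S i))
  let P : ι → Type u := fun i => N ⊗[∀ i, S i] S i
  haveI : ∀ i, Module.Flat (∀ i, S i) (P i) := hflat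
  haveI : Module.Flat (∀ i, S i) (∀ i, P i) :=
    Module.Flat.of_linearEquiv (DirectSum.linearEquivFunOnFintype (∀ i, S i) ι P).symm
  let e : (∀ i, S i) ≃ₗ[∀ i, S i] (∀ i, S i) := LinearEquiv.refl _ _
  exact Module.Flat.of_linearEquiv
    ((TensorProduct.rid _ N).symm ≪≫ₗ (TensorProduct.piRight (∀ i, S i) (∀ i, S i) N S))

/-- Stacks 051L at the associated primes: flat modulo a nilpotent ideal and flat at every associated
prime implies flat. -/
theorem flat_of_flat_mod_nilpotent_of_ass {A : Type u} [CommRing A] [IsNoetherianRing A]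
    (J : Ideal A) (hJ : IsNilpotent J) (M : Type u) [AddCommGroup M] [Module A M]
    [Module.Flat (A ⧸ J) ((A ⧸ J) ⊗[A] M)]
    (h : ∀ (p : Ideal A) [p.IsPrime], p ∈ associatedPrimes A A →
      Module.Flat (Localization.AtPrime p) (LocalizedModule p.primeCompl M)) :
    Module.Flat A M := by
  classical
  haveI : Finite ↥(associatedPrimes A A) := (associatedPrimes.finite A A).to_subtype
  haveI : Fintype ↥(associatedPrimes A A) := Fintype.ofFinite _
  haveI : ∀ p : ↥(associatedPrimes A A), p.1.IsPrime := fun p => IsAssociatedPrime.isPrime p.2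
  let S : ↥(associatedPrimes A A) → Type u := fun p => Localization.AtPrime p.1
  have hinj : Function.Injective (algebraMap A (∀ p, S p)) := by
    rw [injective_iff_map_eq_zero]
    intro x hx
    by_contra hx0
    obtain ⟨p, hp, hxp⟩ := exists_le_isAssociatedPrime_of_isNoetherianRing A x hx0
    haveI : p.IsPrime := hp.isPrime
    obtain ⟨⟨t, ht⟩, htx⟩ :=
      (IsLocalization.map_eq_zero_iff p.primeCompl (Localization.AtPrime p) x).mp (congrFun hx ⟨p, hp⟩)
    exact ht (hxp (by simpa [Submodule.mem_colon_singleton] using htx))
  haveI : Module.Flat (∀ p, S p) ((∀ p, S p) ⊗[A] M) := by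
    refine flat_pi S _ fun p => ?_
    letI := (Pi.evalRingHom S p).toAlgebra
    haveI : IsScalarTower A (∀ q, S q) (S p) := IsScalarTower.of_algebraMap_eq fun _ => rfl
    haveI := h p.1 p.2
    haveI : Module.Flat (S p) (S p ⊗[A] M) :=
      Module.Flat.of_linearEquiv (LocalizedModule.equivTensorProduct p.1.primeCompl M).symm
    exact Module.Flat.of_linearEquiv
      (TensorProduct.AlgebraTensorModule.cancelBaseChange A (∀ q, S q) (S p) (S p) M)
  exact FlatNilp.flat_of_nilpotent (∀ p, S p) hinj J hJ M

end Groth.Agent.FlatDVR
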