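import Groth.Agent.FlatDVR.Ass
import Groth.Agent.LocFlat.Basic
import Groth.Agent.DVRDom.Basic
import Groth.Agent.OneDim.KrullAkizuki
import Groth.Agent.Chevalley.Basic
import Groth.Agent.Adic.Basic
import Mathlib.RingTheory.Ideal.KrullsHeightTheorem
import Mathlib.RingTheory.KrullDimension.Zero
import Mathlib.RingTheory.AdicCompletion.LocalRing
import Mathlib.RingTheory.Flat.Localization

/-! Discrete valuation rings with finite residue extension detect flatness over complete reduced
Noetherian local rings.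

* `exists_dvr_residue_finite`: such DVRs detect reduced ideals.
* `flat_baseChange_of_injective_test`, `flat_baseChange_tensor`: flatness of `S ⊗_A X` over `S`.
* `flat_of_killed`: infinitesimal criterion.
* `ArtinTest`, `flat_quot_pow_of_complete`: the test over a complete reduced local ring.
-/

set_option autoImplicit false

universe u

namespace Groth.Agent.FlatDVR

open IsLocalRing TensorProduct

/-- A Noetherian local domain in which every nonzero prime contains a fixed nonzero element has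
dimension at most one. -/
theorem krullDimLE_one_of_forall_mem {D : Type u} [CommRing D] [IsDomain D] [IsNoetherianRing D]
    [IsLocalRing D] {x : D} (hx : x ≠ 0) (hxm : x ∈ maximalIdeal D)
    (h : ∀ p : Ideal D, p.IsPrime → p ≠ ⊥ → x ∈ p) : Ring.KrullDimLE 1 D := by
  have key : maximalIdeal D ∈ (Ideal.span {x}).minimalPrimes := by
    by_contra hm
    have hfin := (Ideal.span {x}).finite_minimalPrimes_of_isNoetherianRing D
    obtain ⟨y, hym, hy⟩ : ∃ y ∈ maximalIdeal D, ∀ p ∈ (Ideal.span {x}).minimalPrimes, y ∉ p := by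
      by_contra hcon
      push Not at hcon
      have hsub : (maximalIdeal D : Set D) ⊆
          ⋃ p ∈ (↑hfin.toFinset : Set (Ideal D)), (p : Set D) := fun y hy => by
        obtain ⟨p, hp, hyp⟩ := hcon y hy
        exact Set.mem_biUnion (hfin.mem_toFinset.mpr hp) hyp
      obtain ⟨p, hp, hle⟩ := (Ideal.subset_union_prime (f := fun p : Ideal D => p) ⊥ ⊥
        fun p hp _ _ => (hfin.mem_toFinset.mp hp).1.1).mp hsub
      have hp' := hfin.mem_toFinset.mp hp
      exact hm ((IsLocalRing.le_maximalIdeal hp'.1.1.ne_top).antisymm hle ▸ hp')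
    have hy0 : y ≠ 0 := by
      obtain ⟨p, hp⟩ := Ideal.nonempty_minimalPrimes
        (fun htop => (maximalIdeal.isMaximal D).ne_top
          (top_le_iff.mp (htop ▸ (Ideal.span_singleton_le_iff_mem _).mpr hxm)))
      exact fun h0 => hy p hp (h0 ▸ p.zero_mem)
    obtain ⟨q, hq, -⟩ := Ideal.exists_minimalPrimes_le
      ((Ideal.span_singleton_le_iff_mem _).mpr hym : Ideal.span {y} ≤ maximalIdeal D)
    haveI := hq.1.1
    have hqb : q ≠ ⊥ := fun hb =>
      hy0 (Ideal.mem_bot.mp (hb ▸ hq.1.2 (Ideal.mem_span_singleton_self y)))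
    obtain ⟨p, hp, hpq⟩ := Ideal.exists_minimalPrimes_le
      ((Ideal.span_singleton_le_iff_mem _).mpr (h q inferInstance hqb) : Ideal.span {x} ≤ q)
    haveI := hp.1.1
    haveI : (Ideal.span {y}).IsPrincipal := ⟨⟨y, rfl⟩⟩
    have hq1 := Ideal.height_le_one_of_isPrincipal_of_mem_minimalPrimes (Ideal.span {y}) q hq
    rcases hpq.lt_or_eq with hlt | heq
    · have hp0 : (1 : ℕ∞) ≤ p.height := by
        rw [ENat.one_le_iff_ne_zero]
        intro h0
        rw [Ideal.height_eq_zero_iff_eq_bot] at h0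
        exact hx (Ideal.mem_bot.mp (h0 ▸ hp.1.2 (Ideal.mem_span_singleton_self x)))
      have h2 := (Ideal.height_add_one_le_of_lt_of_isPrime hlt).trans hq1
      have h3 : (1 : ℕ∞) + 1 ≤ 1 := (add_le_add hp0 le_rfl).trans h2
      norm_num at h3
    · exact hy p hp (heq ▸ hq.1.2 (Ideal.mem_span_singleton_self y))
  haveI : (Ideal.span {x}).IsPrincipal := ⟨⟨x, rfl⟩⟩
  have h1 := Ideal.height_le_one_of_isPrincipal_of_mem_minimalPrimes (Ideal.span {x}) _ key
  rw [Ring.krullDimLE_iff, ← IsLocalRing.maximalIdeal_height_eq_ringKrullDim]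
  exact_mod_cast h1

/-- DVRs with finite residue extension separate a non-maximal prime from elements outside it. -/
theorem exists_dvr_residue_finite {R : Type u} [CommRing R] [IsNoetherianRing R] [IsLocalRing R]
    (P : Ideal R) [P.IsPrime] (hP : P ≠ maximalIdeal R) {x : R} (hx : x ∉ P) :
    ∃ (V : Type u) (_ : CommRing V) (_ : IsDomain V) (_ : IsDiscreteValuationRing V) (φ : R →+* V),
      IsLocalHom φ ∧ ((residue V).comp φ).Finite ∧ φ x ≠ 0 := by
  obtain ⟨y, hym, hyP⟩ := SetLike.exists_of_lt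
    (lt_of_le_of_ne (IsLocalRing.le_maximalIdeal (Ideal.IsPrime.ne_top ‹_›)) hP)
  have hxy : x * y ∉ P := Ideal.IsPrime.mul_notMem ‹_› hx hyP
  have hxym : x * y ∈ maximalIdeal R := Ideal.mul_mem_left _ x hym
  obtain ⟨Q, ⟨hQp, hQx⟩, hQmax⟩ := set_has_maximal_iff_noetherian.mpr inferInstance
    {Q : Ideal R | Q.IsPrime ∧ x * y ∉ Q} ⟨P, ‹_›, hxy⟩
  haveI := hQp
  set π := Ideal.Quotient.mk Q
  haveI : IsLocalRing (R ⧸ Q) := IsLocalRing.of_surjective' π Ideal.Quotient.mk_surjective
  haveI : IsLocalHom π := .of_surjective _ Ideal.Quotient.mk_surjective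
  have hne : π (x * y) ≠ 0 := fun h => hQx (Ideal.Quotient.eq_zero_iff_mem.mp h)
  have hmem : π (x * y) ∈ maximalIdeal (R ⧸ Q) := (mem_maximalIdeal _).mpr fun hu =>
    (mem_maximalIdeal _).mp hxym (IsLocalHom.map_nonunit _ hu)
  haveI : Ring.KrullDimLE 1 (R ⧸ Q) := krullDimLE_one_of_forall_mem hne hmem fun p hp hpb => by
    by_contra hxp
    haveI := hp
    refine hQmax (p.comap π) ⟨inferInstance, hxp⟩ ?_
    refine lt_of_le_of_ne (fun r hr => ?_) fun hQ => hpb ?_
    · rw [Ideal.mem_comap, Ideal.Quotient.eq_zero_iff_mem.mpr hr]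
      exact p.zero_mem
    · rw [← Ideal.map_comap_of_surjective π Ideal.Quotient.mk_surjective p, ← hQ,
        Ideal.map_quotient_self]
  have hfield : ¬ IsField (R ⧸ Q) := fun hf => hne (by
    rw [IsLocalRing.isField_iff_maximalIdeal_eq] at hf
    rwa [hf, Ideal.mem_bot] at hmem)
  let K := FractionRing (R ⧸ Q)
  obtain ⟨W, hW, hDW, hmW⟩ := DVRDom.exists_dvr_dominating (R ⧸ Q) hfield K K
    (IntermediateField.fg_top_iff.mpr inferInstance)
  let Wa : Subalgebra (R ⧸ Q) K := { W.toSubring with algebraMap_mem' := hDW }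
  let ι : (R ⧸ Q) →+* W := (algebraMap (R ⧸ Q) K).codRestrict W.toSubring hDW
  refine ⟨W, inferInstance, inferInstance, hW, ι.comp π, ⟨fun r hr => ?_⟩, ?_, fun h => hne ?_⟩
  · by_contra hu
    refine (mem_maximalIdeal _).mp ?_ hr
    exact (W.valuation_lt_one_iff _).mpr (hmW _ ((mem_maximalIdeal _).mpr fun hu' =>
      hu (IsLocalHom.map_nonunit _ hu')))
  · -- the residue field is a quotient of `W / aW`
    obtain ⟨-, hart⟩ := isFiniteLength_iff_isNoetherian_isArtinian.mp
      (OneDim.isFiniteLength_quotient Wa hne)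
    haveI : IsNoetherian (R ⧸ Q) (Wa ⧸ LinearMap.range (LinearMap.lsmul (R ⧸ Q) Wa (π (x * y)))) :=
      (isFiniteLength_iff_isNoetherian_isArtinian.mp (OneDim.isFiniteLength_quotient Wa hne)).1
    letI : Algebra (R ⧸ Q) (ResidueField W) := ((residue W).comp ι).toAlgebra
    let g : Wa →ₗ[R ⧸ Q] ResidueField W :=
      { toFun := fun w => residue W ⟨w.1, w.2⟩
        map_add' := fun _ _ => map_add (residue W) ⟨_, _⟩ ⟨_, _⟩
        map_smul' := fun d w =>
          (congrArg (residue W) (Subtype.ext (show ((d • w : Wa) : K) = algebraMap (R ⧸ Q) K d * w from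
            Algebra.smul_def d (w : K)) : (⟨_, (d • w).2⟩ : W) = ι d * ⟨w.1, w.2⟩)).trans
            (map_mul (residue W) (ι d) ⟨w.1, w.2⟩) }
    have hg : LinearMap.range (LinearMap.lsmul (R ⧸ Q) Wa (π (x * y))) ≤ LinearMap.ker g := by
      rintro _ ⟨w, rfl⟩
      rw [LinearMap.mem_ker, LinearMap.lsmul_apply, map_smul, Algebra.smul_def]
      refine mul_eq_zero_of_left ?_ _
      show residue W (ι (π (x * y))) = 0
      exact (residue_eq_zero_iff _).mpr ((W.valuation_lt_one_iff _).mpr (hmW _ hmem))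
    haveI : Module.Finite (R ⧸ Q) (ResidueField W) := Module.Finite.of_surjective
      (Submodule.liftQ _ g hg) fun z => by
        obtain ⟨w, rfl⟩ := residue_surjective z
        exact ⟨Submodule.Quotient.mk (⟨w.1, w.2⟩ : Wa), rfl⟩
    have h1 : ((residue W).comp ι).Finite := ‹Module.Finite (R ⧸ Q) (ResidueField W)›
    exact h1.comp (RingHom.Finite.of_surjective π Ideal.Quotient.mk_surjective)
  · have h1 : algebraMap (R ⧸ Q) K (π x) = 0 := congrArg Subtype.val h
    rw [map_eq_zero_iff _ (IsFractionRing.injective (R ⧸ Q) K)] at h1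
    rw [map_mul, h1, zero_mul]

section BaseChange

variable {A : Type u} [CommRing A] (S : Type u) [CommRing S] [Algebra A S]

/-- Flatness of `S ⊗_A X` over `S` from injectivity on `S`-modules. -/
theorem flat_baseChange_of_injective_test (X : Type u) [AddCommGroup X] [Module A X]
    (h : ∀ (U V : Type u) [AddCommGroup U] [Module S U] [Module A U] [IsScalarTower A S U]
      [AddCommGroup V] [Module S V] [Module A V] [IsScalarTower A S V] (a : U →ₗ[S] V),
      Function.Injective a → Function.Injective ((a.restrictScalars A).rTensor X)) :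
    Module.Flat S (S ⊗[A] X) := by
  rw [Module.Flat.iff_rTensor_injective']
  intro J
  let a : J →ₗ[S] S := Submodule.subtype J
  let eA := AlgebraTensorModule.cancelBaseChange A S S J X
  let eB := AlgebraTensorModule.cancelBaseChange A S S S X
  have key : ∀ z, (a.restrictScalars A).rTensor X (eA z) = eB (a.rTensor (S ⊗[A] X) z) := by
    intro z
    induction z using TensorProduct.induction_on with
    | zero => simp
    | tmul x y =>
      induction y using TensorProduct.induction_on with
      | zero => simp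
      | tmul s m => simp [eA, eB]
      | add u v hu hv => simp only [TensorProduct.tmul_add, map_add, hu, hv]
    | add u v hu hv => simp only [map_add, hu, hv]
  intro x y hxy
  apply eA.injective
  apply h J S a (Submodule.injective_subtype J)
  rw [key, key, hxy]

/-- A flat extension preserves flatness of base changes. -/
theorem flat_baseChange_tensor (B C : Type u) [CommRing B] [CommRing C] [Algebra A B] [Algebra B C]
    [Algebra A C] [IsScalarTower A B C] [Module.Flat B C] (N : Type u) [AddCommGroup N] [Module A N]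
    [Module B N] [IsScalarTower A B N] [Module.Flat S (S ⊗[A] N)] :
    Module.Flat S (S ⊗[A] (C ⊗[B] N)) := by
  refine flat_baseChange_of_injective_test S _ fun U V _ _ _ _ _ _ _ _ a ha => ?_
  rw [← LinearMap.lTensor_inj_iff_rTensor_inj]
  have h1 : Function.Injective ((a.restrictScalars A).lTensor N) :=
    (LinearMap.lTensor_inj_iff_rTensor_inj _ _).mpr
      (FlatNilp.rTensor_injective_of_flat_baseChange S N a ha)
  let g : N ⊗[A] U →ₗ[B] N ⊗[A] V := AlgebraTensorModule.lTensor B N (a.restrictScalars A)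
  have h2 : Function.Injective (g.lTensor C) :=
    Module.Flat.lTensor_preserves_injective_linearMap (M := C) g h1
  have hc : ((a.restrictScalars A).lTensor (C ⊗[B] N)) =
      (AlgebraTensorModule.assoc A B B C N V).symm.toLinearMap.restrictScalars A ∘ₗ
      (g.lTensor C).restrictScalars A ∘ₗ
      (AlgebraTensorModule.assoc A B B C N U).toLinearMap.restrictScalars A := by
    apply TensorProduct.ext'
    intro z x
    induction z using TensorProduct.induction_on with
    | zero => rw [TensorProduct.zero_tmul, map_zero, map_zero]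
    | tmul c n => simp [g]
    | add z₁ z₂ h₁ h₂ => rw [TensorProduct.add_tmul, map_add, map_add, h₁, h₂]
  rw [hc]
  exact (AlgebraTensorModule.assoc A B B C N V).symm.injective.comp
    (h2.comp (AlgebraTensorModule.assoc A B B C N U).injective)

end BaseChange

/-- Infinitesimal criterion of flatness. -/
theorem flat_of_killed {R S : Type u} [CommRing R] [IsNoetherianRing R] [IsLocalRing R] [CommRing S]
    [IsNoetherianRing S] [IsLocalRing S] [Algebra R S] [IsLocalHom (algebraMap R S)]
    (Y : Type u) [AddCommGroup Y] [Module R Y] [Module S Y] [IsScalarTower R S Y] [Module.Finite S Y]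
    (h : ∀ n, Module.Flat (R ⧸ maximalIdeal R ^ n) ((R ⧸ maximalIdeal R ^ n) ⊗[R] Y)) :
    Module.Flat R Y := by
  refine LocFlat.flat_of_forall_pow (S := S) Y (maximalIdeal R)
    (LocFlat.map_le_jacobson _ (maximalIdeal.isMaximal R).ne_top)
    fun n U V _ _ _ _ a ha hV => ?_
  haveI := h n
  refine FlatNilp.rTensor_injective_of_killed (maximalIdeal R ^ n) Y a ha fun r hr z => ?_
  rw [← Submodule.mem_bot R, ← hV]
  exact Submodule.smul_mem_smul hr trivial

/-- `M` becomes flat over `V / m_V ^ k` for every DVR `V` dominating `A` with finite residue extension. -/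
def ArtinTest (A M : Type u) [CommRing A] [IsLocalRing A] [AddCommGroup M] [Module A M] : Prop :=
  ∀ (V : Type u) [CommRing V] [IsDomain V] [IsDiscreteValuationRing V] [Algebra A V]
    [IsLocalHom (algebraMap A V)], ((residue V).comp (algebraMap A V)).Finite →
    ∀ k : ℕ, Module.Flat (V ⧸ maximalIdeal V ^ k) ((V ⧸ maximalIdeal V ^ k) ⊗[A] M)

/-- Over a complete reduced Noetherian local ring the test gives flatness modulo every power of the
maximal ideal. -/
theorem flat_quot_pow_of_complete {R : Type u} [CommRing R] [IsNoetherianRing R] [IsLocalRing R]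
    [IsReduced R] [IsAdicComplete (maximalIdeal R) R] (X : Type u) [AddCommGroup X] [Module R X]
    (h : ArtinTest R X) (n : ℕ) :
    Module.Flat (R ⧸ maximalIdeal R ^ n) ((R ⧸ maximalIdeal R ^ n) ⊗[R] X) := by
  classical
  by_cases hdim : ∃ P : Ideal R, P.IsPrime ∧ P ≠ maximalIdeal R
  swap
  · push Not at hdim
    have hf : IsField R := by
      rw [IsLocalRing.isField_iff_maximalIdeal_eq, eq_bot_iff]
      intro r hr
      rw [Ideal.mem_bot]
      refine (nilpotent_iff_mem_prime.mpr fun P hP => ?_ : IsNilpotent r).eq_zero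
      exact hdim P hP ▸ hr
    letI := hf.toField
    infer_instance
  obtain ⟨P₀, hP₀, hP₀m⟩ := hdim
  let Idx := Σ' (V : Type u) (_ : CommRing V) (_ : IsDomain V) (_ : IsDiscreteValuationRing V)
    (φ : R →+* V), IsLocalHom φ ∧ ((residue V).comp φ).Finite
  let J : Idx → ℕ → Ideal R := fun ⟨V, _, _, _, φ, _⟩ k => (maximalIdeal V ^ k).comap φ
  let K : ℕ → Ideal R := fun k => ⨅ i, J i k
  have hJm : ∀ i k, maximalIdeal R ^ k ≤ J i k := fun ⟨V, _, _, _, φ, hφ, _⟩ k => by
    haveI := hφ
    refine Ideal.map_le_iff_le_comap.mp ?_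
    rw [Ideal.map_pow]
    exact Ideal.pow_right_mono (((local_hom_TFAE φ).out 0 2).mp hφ) k
  have hmem : ∀ i k, Module.Flat (R ⧸ J i k) ((R ⧸ J i k) ⊗[R] X) := by
    rintro ⟨V, _, _, _, φ, hφ, hfin⟩ k
    letI := φ.toAlgebra
    haveI : IsLocalHom (algebraMap R V) := hφ
    set I := (maximalIdeal V ^ k).comap φ
    haveI := h V hfin k
    rcases eq_or_ne I ⊤ with htop | htop
    · haveI : Subsingleton (R ⧸ I) := Ideal.Quotient.subsingleton_iff.mpr htop
      haveI : Subsingleton ((R ⧸ I) ⊗[R] X) := Module.subsingleton (R ⧸ I) _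
      infer_instance
    letI : Algebra (R ⧸ I) (V ⧸ maximalIdeal V ^ k) :=
      (Ideal.quotientMap (maximalIdeal V ^ k) φ le_rfl).toAlgebra
    haveI : IsScalarTower R (R ⧸ I) (V ⧸ maximalIdeal V ^ k) :=
      IsScalarTower.of_algebraMap_eq fun _ => rfl
    haveI : Nontrivial (R ⧸ I) := Ideal.Quotient.nontrivial_iff.mpr htop
    haveI : IsLocalRing (R ⧸ I) := IsLocalRing.of_surjective' (Ideal.Quotient.mk I) Ideal.Quotient.mk_surjective
    have hnil : IsNilpotent (maximalIdeal (R ⧸ I)) := by
      refine ⟨k, ?_⟩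
      rw [← IsLocalRing.map_maximalIdeal_of_surjective (Ideal.Quotient.mk I) Ideal.Quotient.mk_surjective,
        ← Ideal.map_pow, Ideal.zero_eq_bot, Ideal.map_eq_bot_iff_le_ker, Ideal.mk_ker]
      exact hJm ⟨V, inferInstance, inferInstance, inferInstance, φ, hφ, hfin⟩ k
    letI : Field ((R ⧸ I) ⧸ maximalIdeal (R ⧸ I)) := Ideal.Quotient.field _
    haveI : Module.Flat ((R ⧸ I) ⧸ maximalIdeal (R ⧸ I))
        (((R ⧸ I) ⧸ maximalIdeal (R ⧸ I)) ⊗[R ⧸ I] ((R ⧸ I) ⊗[R] X)) := inferInstance
    haveI := FlatNilp.flat_baseChange_twice (R := R) (R ⧸ I) (V ⧸ maximalIdeal V ^ k) X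
    exact FlatNilp.flat_of_nilpotent (V ⧸ maximalIdeal V ^ k) Ideal.quotientMap_injective
      (maximalIdeal (R ⧸ I)) hnil _
  have hK : ∀ k, Module.Flat (R ⧸ K k) ((R ⧸ K k) ⊗[R] X) := by
    intro k
    haveI := Chevalley.isArtinianRing_quotient_pow R k
    let F : Set (Ideal R) := {L | maximalIdeal R ^ k ≤ L ∧ K k ≤ L ∧ Module.Flat (R ⧸ L) ((R ⧸ L) ⊗[R] X)}
    have htop : (⊤ : Ideal R) ∈ F := by
      refine ⟨le_top, le_top, ?_⟩
      haveI : Subsingleton (R ⧸ (⊤ : Ideal R)) := Ideal.Quotient.subsingleton_iff.mpr rfl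
      haveI : Subsingleton ((R ⧸ (⊤ : Ideal R)) ⊗[R] X) := Module.subsingleton (R ⧸ (⊤ : Ideal R)) _
      infer_instance
    obtain ⟨_, ⟨L, ⟨hLm, hLK, hL⟩, rfl⟩, hmin⟩ := IsArtinian.set_has_minimal
      ((fun L => L.map (Ideal.Quotient.mk (maximalIdeal R ^ k))) '' F) ⟨_, ⊤, htop, rfl⟩
    suffices hle : L ≤ K k by rw [← le_antisymm hle hLK]; exact hL
    refine le_iInf fun i => ?_
    haveI := hL
    haveI := hmem i k
    have hF : L ⊓ J i k ∈ F :=
      ⟨le_inf hLm (hJm i k), le_inf hLK (iInf_le _ i), FlatNilp.flat_quotient_inf X L (J i k)⟩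
    have hnlt := hmin _ ⟨_, hF, rfl⟩
    have heq : (L ⊓ J i k).map (Ideal.Quotient.mk (maximalIdeal R ^ k)) =
        L.map (Ideal.Quotient.mk (maximalIdeal R ^ k)) :=
      eq_of_le_of_not_lt (Ideal.map_mono inf_le_left) hnlt
    have := congrArg (Ideal.comap (Ideal.Quotient.mk (maximalIdeal R ^ k))) heq
    rw [Ideal.comap_map_quotientMk, Ideal.comap_map_quotientMk,
      sup_eq_right.mpr (le_inf hLm (hJm i k)), sup_eq_right.mpr hLm] at this
    exact this.ge.trans inf_le_right
  have hKanti : Antitone K := fun a b hab => iInf_mono fun ⟨V, _, _, _, φ, _⟩ =>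
    Ideal.comap_mono (Ideal.pow_le_pow_right hab)
  have hK0 : ⨅ k, K k = ⊥ := by
    rw [eq_bot_iff]
    intro r hr
    rw [Ideal.mem_bot]
    refine (nilpotent_iff_mem_prime.mpr fun P hP => ?_ : IsNilpotent r).eq_zero
    have hsep : ∀ Q : Ideal R, Q.IsPrime → Q ≠ maximalIdeal R → r ∈ Q := by
      intro Q hQ hQm
      by_contra hrQ
      obtain ⟨V, i1, i2, i3, φ, hφ, hfin, hne⟩ := exists_dvr_residue_finite Q hQm hrQ
      apply hne
      rw [← Ideal.mem_bot, ← Ideal.iInf_pow_eq_bot_of_isLocalRing (maximalIdeal V)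
        (maximalIdeal.isMaximal V).ne_top, Ideal.mem_iInf]
      intro k
      exact iInf_le (fun i => J i k) ⟨V, i1, i2, i3, φ, hφ, hfin⟩ (Ideal.mem_iInf.mp hr k)
    by_cases hPm : P = maximalIdeal R
    · exact hPm ▸ IsLocalRing.le_maximalIdeal hP₀.ne_top (hsep P₀ hP₀ hP₀m)
    · exact hsep P hP hPm
  obtain ⟨k, hk⟩ := Chevalley.exists_le_pow K hKanti hK0 n
  haveI := hK k
  letI : Algebra (R ⧸ K k) (R ⧸ maximalIdeal R ^ n) := (Ideal.Quotient.factor hk).toAlgebra
  haveI : IsScalarTower R (R ⧸ K k) (R ⧸ maximalIdeal R ^ n) := IsScalarTower.of_algebraMap_eq fun _ => rfl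
  exact FlatNilp.flat_baseChange_of_tower (R := R) (R ⧸ K k) _ X

end Groth.Agent.FlatDVR
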